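import Mathlib

/-!
A nontrivial word takes a non-central value on commutators of SL₂ over every large enough field.
-/

set_option autoImplicit false

namespace CfsgLib.Laws

open Matrix Polynomial
open scoped commutatorElement

variable {F : Type*} [Field F]

theorem sl_ext {A B : SpecialLinearGroup (Fin 2) F}
    (h : (A : Matrix (Fin 2) (Fin 2) F) = (B : Matrix (Fin 2) (Fin 2) F)) : A = B := Subtype.ext h

/-- The projection onto the line of `(1, a)` along the line of `(1, b)`. -/
def proj (a b : F) : Matrix (Fin 2) (Fin 2) F :=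
  (a - b)⁻¹ • vecMulVec ![1, a] ![-b, 1]

/-- The matrix with eigenvalue `t` on `(1, a)` and `t⁻¹` on `(1, b)`. -/
def diagLike (a b t : F) : Matrix (Fin 2) (Fin 2) F :=
  t • proj a b + t⁻¹ • proj b a

theorem diagLike_det {a b t : F} (hab : a ≠ b) (ht : t ≠ 0) : (diagLike a b t).det = 1 := by
  have h1 : a - b ≠ 0 := sub_ne_zero.2 hab
  have h2 : b - a ≠ 0 := sub_ne_zero.2 hab.symm
  simp [diagLike, proj, vecMulVec, det_fin_two]
  field_simp
  ring

/-- `diagLike` as an element of SL₂ (identity if degenerate). -/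
noncomputable def diagSL (a b t : F) : SpecialLinearGroup (Fin 2) F :=
  open Classical in
  if h : a ≠ b ∧ t ≠ 0 then ⟨diagLike a b t, diagLike_det h.1 h.2⟩ else 1

theorem coe_diagSL {a b t : F} (hab : a ≠ b) (ht : t ≠ 0) :
    ((diagSL a b t : SpecialLinearGroup (Fin 2) F) : Matrix (Fin 2) (Fin 2) F) = diagLike a b t := by
  simp [diagSL, hab, ht]

theorem diagLike_mul {a b s t : F} (hab : a ≠ b) (hs : s ≠ 0) (ht : t ≠ 0) :
    diagLike a b s * diagLike a b t = diagLike a b (s * t) := by
  have h1 : a - b ≠ 0 := sub_ne_zero.2 hab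
  have h2 : b - a ≠ 0 := sub_ne_zero.2 hab.symm
  ext i j
  fin_cases i <;> fin_cases j <;>
    simp [diagLike, proj, vecMulVec, Matrix.mul_apply, Fin.sum_univ_two] <;> field_simp <;> ring

theorem diagSL_mul {a b s t : F} (hab : a ≠ b) (hs : s ≠ 0) (ht : t ≠ 0) :
    diagSL a b s * diagSL a b t = diagSL a b (s * t) := by
  apply sl_ext
  simp [coe_diagSL, hab, hs, ht, diagLike_mul]

theorem diagSL_inv {a b t : F} (hab : a ≠ b) (ht : t ≠ 0) :
    (diagSL a b t)⁻¹ = diagSL a b t⁻¹ := by
  apply inv_eq_of_mul_eq_one_right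
  rw [diagSL_mul hab ht (inv_ne_zero ht), mul_inv_cancel₀ ht]
  apply sl_ext
  rw [coe_diagSL hab one_ne_zero]
  have h1 : a - b ≠ 0 := sub_ne_zero.2 hab
  have h2 : b - a ≠ 0 := sub_ne_zero.2 hab.symm
  ext i j
  fin_cases i <;> fin_cases j <;> simp [diagLike, proj, vecMulVec] <;> field_simp <;> ring

/-- An element exchanging the lines of `(1, a)` and `(1, b)`. -/
def swapLike (a b : F) : Matrix (Fin 2) (Fin 2) F :=
  (a - b)⁻¹ • (vecMulVec ![1, b] ![-b, 1] - vecMulVec ![1, a] ![a, -1])

theorem diagSL_sq_mem_commutator {a b s : F} (hab : a ≠ b) (hs : s ≠ 0) :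
    diagSL a b (s ^ 2) ∈ commutator (SpecialLinearGroup (Fin 2) F) := by
  have h1 : a - b ≠ 0 := sub_ne_zero.2 hab
  have h2 : b - a ≠ 0 := sub_ne_zero.2 hab.symm
  have hd : (swapLike a b).det = 1 := by
    simp [swapLike, vecMulVec, det_fin_two]
    field_simp
    ring
  set W : SpecialLinearGroup (Fin 2) F := ⟨swapLike a b, hd⟩ with hW
  have hWA : W * diagSL a b s⁻¹ = diagSL a b s * W := by
    apply sl_ext
    show swapLike a b * (diagSL a b s⁻¹).1 = (diagSL a b s).1 * swapLike a b
    rw [show (diagSL a b s⁻¹).1 = diagLike a b s⁻¹ from coe_diagSL hab (inv_ne_zero hs),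
      show (diagSL a b s).1 = diagLike a b s from coe_diagSL hab hs]
    ext i j
    fin_cases i <;> fin_cases j <;>
      simp [swapLike, diagLike, proj, vecMulVec, Matrix.mul_apply, Fin.sum_univ_two] <;>
        field_simp <;> ring
  have : diagSL a b (s ^ 2) = ⁅diagSL a b s, W⁆ := by
    rw [commutatorElement_def, diagSL_inv hab hs]
    calc diagSL a b (s ^ 2) = diagSL a b s * diagSL a b s := by rw [diagSL_mul hab hs hs, pow_two]
      _ = diagSL a b s * (diagSL a b s * W) * W⁻¹ := by group
      _ = diagSL a b s * (W * diagSL a b s⁻¹) * W⁻¹ := by rw [hWA]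
      _ = _ := by simp only [mul_assoc]
  rw [this, commutator_def]
  exact Subgroup.commutator_mem_commutator (Subgroup.mem_top _) (Subgroup.mem_top _)

/-- The two eigenlines attached to a letter. -/
def flipLetter (l : ℕ × Bool) : ℕ × Bool := (l.1, !l.2)

noncomputable def letterPoly (x : ℕ × Bool → F) (l : ℕ × Bool) : Matrix (Fin 2) (Fin 2) F[X] :=
  (X ^ 4 : F[X]) • (proj (x l) (x (flipLetter l))).map C + (proj (x (flipLetter l)) (x l)).map C

theorem prod_proj_exists (x : ℕ × Bool → F) :
    ∀ L : List (ℕ × Bool), L ≠ [] → FreeGroup.IsReduced L →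
      (∀ l ∈ L, ∀ l' ∈ L, l' ≠ flipLetter l → x l' ≠ x (flipLetter l)) →
      (∀ l ∈ L, x l ≠ x (flipLetter l)) →
      ∃ c b : F, c ≠ 0 ∧ (L.map fun l => proj (x l) (x (flipLetter l))).prod
        = c • vecMulVec ![1, x (L.headI)] ![b, 1] := by
  intro L
  induction L with
  | nil => intro h; exact absurd rfl h
  | cons l L ih =>
    intro _ hred hx hne
    rcases L with _ | ⟨l2, L⟩
    · refine ⟨(x l - x (flipLetter l))⁻¹, - x (flipLetter l),
        inv_ne_zero (sub_ne_zero.2 (hne l (by simp))), ?_⟩
      simp [proj]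
    · rw [FreeGroup.isReduced_cons_cons] at hred
      obtain ⟨c, b, hc, he⟩ := ih (by simp) hred.2
        (fun l hl l' hl' => hx l (by simp [hl]) l' (by simp [hl']))
        (fun l hl => hne l (by simp [hl]))
      have hl2 : l2 ≠ flipLetter l := by
        intro h
        have := hred.1 (by rw [h]; rfl)
        rw [h] at this
        simp [flipLetter] at this
      refine ⟨(x l - x (flipLetter l))⁻¹ * c * (x l2 - x (flipLetter l)), b, ?_, ?_⟩
      · refine mul_ne_zero (mul_ne_zero (inv_ne_zero (sub_ne_zero.2 (hne l (by simp)))) hc) ?_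
        exact sub_ne_zero.2 (hx l (by simp) l2 (by simp) hl2)
      · rw [List.map_cons, List.prod_cons, he]
        ext i j
        simp [proj, vecMulVec, Matrix.mul_apply, Fin.sum_univ_two]
        ring

theorem natDegree_mul_matrix {m n : ℕ} (A B : Matrix (Fin 2) (Fin 2) F[X])
    (hA : ∀ i j, (A i j).natDegree ≤ m) (hB : ∀ i j, (B i j).natDegree ≤ n) :
    (∀ i j, ((A * B) i j).natDegree ≤ m + n) ∧
    (∀ i j, ((A * B) i j).coeff (m + n) =
      ((A.map fun p => p.coeff m) * (B.map fun p => p.coeff n)) i j) := by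
  refine ⟨fun i j => ?_, fun i j => ?_⟩
  · rw [Matrix.mul_apply]
    refine natDegree_sum_le_of_forall_le _ _ fun k _ => ?_
    exact natDegree_mul_le.trans (Nat.add_le_add (hA i k) (hB k j))
  · rw [Matrix.mul_apply, finset_sum_coeff, Matrix.mul_apply]
    refine Finset.sum_congr rfl fun k _ => ?_
    exact coeff_mul_add_eq_of_natDegree_le (hA i k) (hB k j)

theorem letterPoly_prod (x : ℕ × Bool → F) (L : List (ℕ × Bool)) :
    (∀ i j, ((L.map (letterPoly x)).prod i j).natDegree ≤ 4 * L.length) ∧
    (∀ i j, ((L.map (letterPoly x)).prod i j).coeff (4 * L.length) =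
      (L.map fun l => proj (x l) (x (flipLetter l))).prod i j) := by
  induction L with
  | nil =>
    constructor <;> intro i j <;> by_cases h : i = j <;> simp [h, Matrix.one_apply]
  | cons l L ih =>
    have h1 : ∀ i j, (letterPoly x l i j).natDegree ≤ 4 := by
      intro i j
      simp only [letterPoly, Matrix.add_apply, Matrix.smul_apply, Matrix.map_apply, smul_eq_mul]
      compute_degree
    have h2 : ((letterPoly x l).map fun p => p.coeff 4) = proj (x l) (x (flipLetter l)) := by
      ext i j
      simp [letterPoly, coeff_C]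
    obtain ⟨ha, hb⟩ := natDegree_mul_matrix _ _ h1 ih.1
    have hlen : 4 * (l :: L).length = 4 + 4 * L.length := by simp; omega
    rw [hlen]
    refine ⟨fun i j => ?_, fun i j => ?_⟩
    · simpa using ha i j
    · have hL : ((L.map (letterPoly x)).prod.map fun p => p.coeff (4 * L.length))
          = (L.map fun l => proj (x l) (x (flipLetter l))).prod := by
        ext i j; exact ih.2 i j
      have := hb i j
      rw [h2, hL] at this
      simpa using this

theorem letterPoly_eval (x : ℕ × Bool → F) {s : F} (hs : s ≠ 0) (L : List (ℕ × Bool)) :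
    (evalRingHom s).mapMatrix (L.map (letterPoly x)).prod
      = (s ^ 2) ^ L.length •
        (L.map fun l => diagLike (x l) (x (flipLetter l)) (s ^ 2)).prod := by
  induction L with
  | nil => simp
  | cons l L ih =>
    have h : (evalRingHom s).mapMatrix (letterPoly x l)
        = (s ^ 2) • diagLike (x l) (x (flipLetter l)) (s ^ 2) := by
      ext i j
      simp [letterPoly, diagLike]
      field_simp
    simp only [List.map_cons, List.prod_cons, map_mul, ih, h, List.length_cons]
    rw [smul_mul_smul_comm, ← pow_succ']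

theorem diagLike_swap (a b t : F) : diagLike b a t = diagLike a b t⁻¹ := by
  simp [diagLike, add_comm]

theorem exists_injOn (S : Finset (ℕ × Bool))
    (hF : Infinite F ∨ S.card ≤ Nat.card F) : ∃ x : ℕ × Bool → F, Set.InjOn x S := by
  classical
  have : Nonempty (S ↪ F) := by
    rcases finite_or_infinite F with h | h
    · have := Fintype.ofFinite F
      rcases hF with hF | hF
      · exact absurd h (not_finite_iff_infinite.2 hF)
      · apply Function.Embedding.nonempty_of_card_le
        simpa [Nat.card_eq_fintype_card] using hF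
    · exact ⟨((Fintype.equivFin S).toEmbedding.trans Fin.valEmbedding).trans
        (Infinite.natEmbedding F)⟩
  obtain ⟨e⟩ := this
  refine ⟨fun l => if h : l ∈ S then e ⟨l, h⟩ else 0, ?_⟩
  intro a ha b hb hab
  simpa [Finset.mem_coe.1 ha, Finset.mem_coe.1 hb] using hab

/-- Core lemma: a nontrivial word has, over each big finite field, a value on commutators of SL₂
that fails to commute with some commutator. -/
theorem exists_noncentral_value (w : FreeGroup ℕ) (hw : w ≠ 1) :
    ∃ N : ℕ, ∀ (F : Type*) [Field F] [Finite F], N ≤ Nat.card F →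
      ∃ (f : ℕ → SpecialLinearGroup (Fin 2) F) (k : SpecialLinearGroup (Fin 2) F),
        (∀ i, f i ∈ commutator (SpecialLinearGroup (Fin 2) F)) ∧
        k ∈ commutator (SpecialLinearGroup (Fin 2) F) ∧
        FreeGroup.lift f w * k ≠ k * FreeGroup.lift f w := by
  classical
  set L := w.toWord with hL
  have hLne : L ≠ [] := fun h => hw (FreeGroup.toWord_eq_nil_iff.1 h)
  set S : Finset (ℕ × Bool) := L.toFinset ∪ L.toFinset.image flipLetter with hS
  refine ⟨S.card + 4 * L.length + 6, ?_⟩
  intro F _ _ hN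
  obtain ⟨x, hx⟩ := exists_injOn (F := F) S (Or.inr (by omega))
  have hmem : ∀ l ∈ L, l ∈ (S : Set _) := fun l hl => by simp [hS, hl]
  have hmem' : ∀ l ∈ L, flipLetter l ∈ (S : Set _) := fun l hl => by
    simp only [hS, Finset.coe_union, Set.mem_union, Finset.coe_image]
    exact Or.inr ⟨l, by simpa using hl, rfl⟩
  have hne : ∀ l ∈ L, x l ≠ x (flipLetter l) := fun l hl h => by
    have := hx (hmem l hl) (hmem' l hl) h
    simp [flipLetter, Prod.ext_iff] at this
  have hxne : ∀ l ∈ L, ∀ l' ∈ L, l' ≠ flipLetter l → x l' ≠ x (flipLetter l) :=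
    fun l hl l' hl' h he => h (hx (hmem l' hl') (hmem' l hl) he)
  obtain ⟨c, b, hc, hprod⟩ := prod_proj_exists x L hLne (FreeGroup.isReduced_toWord) hxne hne
  obtain ⟨hdeg, hcoeff⟩ := letterPoly_prod x L
  set P : F[X] := (L.map (letterPoly x)).prod 0 1 * (X * (X ^ 4 - 1)) with hP
  have hP0 : (L.map (letterPoly x)).prod 0 1 ≠ 0 := by
    intro h
    have := hcoeff 0 1
    rw [h, hprod] at this
    simp [vecMulVec] at this
    exact hc this.symm
  have hPne : P ≠ 0 := by
    refine mul_ne_zero hP0 (mul_ne_zero X_ne_zero ?_)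
    have h4 := X_pow_sub_C_ne_zero (R := F) (n := 4) (by norm_num) 1
    simpa using h4
  have hPdeg : P.natDegree ≤ 4 * L.length + 5 := by
    refine natDegree_mul_le.trans (Nat.add_le_add (hdeg 0 1) ?_)
    compute_degree
  have := Fintype.ofFinite F
  obtain ⟨s, hs⟩ : ∃ s : F, P.eval s ≠ 0 := by
    by_contra h
    push Not at h
    apply hPne
    apply eq_zero_of_natDegree_lt_card_of_eval_eq_zero P (f := id) Function.injective_id h
    rw [← Nat.card_eq_fintype_card]
    omega
  simp only [hP, eval_mul, eval_X, eval_sub, eval_pow, eval_one, mul_ne_zero_iff] at hs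
  obtain ⟨hs01, hs0, hs4⟩ := hs
  set f : ℕ → SpecialLinearGroup (Fin 2) F :=
    fun i => diagSL (x (i, true)) (x (i, false)) (s ^ 2) with hf
  have hlow : (!![1, 0; 1, 1] : Matrix (Fin 2) (Fin 2) F).det = 1 := by simp [det_fin_two]
  set k : SpecialLinearGroup (Fin 2) F := ⟨!![1, 0; (s ^ 4 - 1), 1], by simp [det_fin_two]⟩ with hk
  refine ⟨f, k, ?_, ?_, ?_⟩
  · intro i
    by_cases h : x (i, true) ≠ x (i, false)
    · exact diagSL_sq_mem_commutator h hs0
    · simp [hf, diagSL, h]
  · let d : SpecialLinearGroup (Fin 2) F :=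
      ⟨!![(s ^ 2)⁻¹, 0; 0, s ^ 2], by simp [det_fin_two, hs0]⟩
    let u : SpecialLinearGroup (Fin 2) F := ⟨!![1, 0; 1, 1], hlow⟩
    have : k = ⁅d, u⁆ := by
      rw [commutatorElement_def, eq_mul_inv_iff_mul_eq, eq_mul_inv_iff_mul_eq]
      apply sl_ext
      show !![1, 0; (s ^ 4 - 1), 1] * !![1, 0; 1, 1] * !![(s ^ 2)⁻¹, 0; 0, s ^ 2]
        = !![(s ^ 2)⁻¹, 0; 0, s ^ 2] * !![1, 0; 1, 1]
      ext i j
      fin_cases i <;> fin_cases j <;>
        simp [Matrix.mul_apply, Fin.sum_univ_two] <;> field_simp <;> ring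
    rw [this, commutator_def]
    exact Subgroup.commutator_mem_commutator (Subgroup.mem_top _) (Subgroup.mem_top _)
  · have hw' : w = FreeGroup.mk L := (FreeGroup.mk_toWord).symm
    have hval : ((FreeGroup.lift f w : SpecialLinearGroup (Fin 2) F) : Matrix (Fin 2) (Fin 2) F)
        = (L.map fun l => diagLike (x l) (x (flipLetter l)) (s ^ 2)).prod := by
      rw [hw', FreeGroup.lift_mk]
      have : ∀ M : List (ℕ × Bool), (∀ l ∈ M, x l ≠ x (flipLetter l)) →
          (((M.map fun l => cond l.2 (f l.1) (f l.1)⁻¹).prod :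
            SpecialLinearGroup (Fin 2) F) : Matrix (Fin 2) (Fin 2) F)
            = (M.map fun l => diagLike (x l) (x (flipLetter l)) (s ^ 2)).prod := by
        intro M hM
        induction M with
        | nil => simp
        | cons l M ih =>
          simp only [List.map_cons, List.prod_cons]
          show (cond l.2 (f l.1) (f l.1)⁻¹).1 * _ = _
          refine (congrArg₂ (· * ·) ?_ (ih (fun l hl => hM l (by simp [hl]))) : _)
          obtain ⟨i, bb⟩ := l
          have hh := hM (i, bb) (by simp)
          cases bb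
          · simp only [flipLetter, Bool.not_false] at hh ⊢
            simp only [cond_false, hf]
            rw [diagSL_inv hh.symm (pow_ne_zero 2 hs0),
              coe_diagSL hh.symm (inv_ne_zero (pow_ne_zero 2 hs0)), diagLike_swap (x (i, true))]
          · simp only [flipLetter, Bool.not_true] at hh ⊢
            simp only [cond_true, hf]
            rw [coe_diagSL hh (pow_ne_zero 2 hs0)]
      exact this L hne
    intro hcomm
    have h01 : (FreeGroup.lift f w : SpecialLinearGroup (Fin 2) F).1 0 1 ≠ 0 := by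
      rw [hval]
      intro h
      apply hs01
      have he := congrFun (congrFun (letterPoly_eval x hs0 L) 0) 1
      rw [Matrix.smul_apply, h, smul_zero] at he
      simpa using he
    obtain ⟨W, hW⟩ : ∃ W : Matrix (Fin 2) (Fin 2) F, W = (FreeGroup.lift f w).1 := ⟨_, rfl⟩
    have h01' : W 0 1 ≠ 0 := hW ▸ h01
    have heq : W * !![1, 0; (s ^ 4 - 1), 1] = !![1, 0; (s ^ 4 - 1), 1] * W :=
      hW ▸ congrArg Subtype.val hcomm
    have h00 := congrFun (congrFun heq 0) 0
    simp [Matrix.mul_apply, Fin.sum_univ_two] at h00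
    rcases h00 with h | h
    · exact h01' h
    · exact hs4 h

end CfsgLib.Laws
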