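import Mathlib
import Cfsg.Agent.Lib.Laws.SL2

/-!
Transfer of failing laws along injective homomorphisms.
-/

set_option autoImplicit false

namespace CfsgLib.Laws

/-- `w` fails to be a law modulo the centre of `K`. -/
def FailsModCenter (w : FreeGroup ℕ) (K : Type*) [Group K] : Prop :=
  ∃ f : ℕ → K, FreeGroup.lift f w ∉ Subgroup.center K

theorem map_lift {S T : Type*} [Group S] [Group T] (φ : S →* T) (f : ℕ → S) (w : FreeGroup ℕ) :
    φ (FreeGroup.lift f w) = FreeGroup.lift (fun i => φ (f i)) w :=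
  FreeGroup.lift_unique (φ.comp (FreeGroup.lift f)) (fun i => by simp)

/-- The witness provided by the core lemma. -/
def HasWitness (w : FreeGroup ℕ) (S : Type*) [Group S] : Prop :=
  ∃ (f : ℕ → S) (k : S), (∀ i, f i ∈ commutator S) ∧ k ∈ commutator S ∧
    FreeGroup.lift f w * k ≠ k * FreeGroup.lift f w

theorem HasWitness.failsModCenter_subgroup {w : FreeGroup ℕ} {S H₀ : Type*} [Group S] [Group H₀]
    (h : HasWitness w S) (ψ : S →* H₀) (hψ : Function.Injective ψ) (H : Subgroup H₀)
    (hH : commutator H₀ ≤ H) : FailsModCenter w H := by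
  obtain ⟨f, k, hf, hk, hne⟩ := h
  have hmem : ∀ s ∈ commutator S, ψ s ∈ H := by
    intro s hs
    apply hH
    have h1 : ψ s ∈ (commutator S).map ψ := Subgroup.mem_map_of_mem ψ hs
    rw [commutator_def, Subgroup.map_commutator] at h1
    rw [commutator_def]
    exact Subgroup.commutator_mono le_top le_top h1
  refine ⟨fun i => ⟨ψ (f i), hmem _ (hf i)⟩, fun hc => hne (hψ ?_)⟩
  have h2 := congrArg H.subtype ((Subgroup.mem_center_iff.1 hc) ⟨ψ k, hmem k hk⟩)
  rw [map_mul, map_mul, map_lift] at h2
  simp only [Subgroup.coe_subtype] at h2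
  rw [map_mul, map_mul, map_lift]
  exact h2.symm

theorem HasWitness.failsModCenter {w : FreeGroup ℕ} {S H : Type*} [Group S] [Group H]
    (h : HasWitness w S) (ψ : S →* H) (hψ : Function.Injective ψ) : FailsModCenter w H := by
  obtain ⟨f, k, _, _, hne⟩ := h
  refine ⟨fun i => ψ (f i), fun hc => hne (hψ ?_)⟩
  rw [map_mul, map_mul, map_lift]
  exact ((Subgroup.mem_center_iff.1 hc) (ψ k)).symm

theorem FailsModCenter.not_law_quotient {w : FreeGroup ℕ} {H : Type*} [Group H]
    (h : FailsModCenter w H) :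
    ∃ f : ℕ → H ⧸ Subgroup.center H, FreeGroup.lift f w ≠ 1 := by
  obtain ⟨f, hf⟩ := h
  refine ⟨fun i => QuotientGroup.mk' (Subgroup.center H) (f i), ?_⟩
  rw [← map_lift]
  simpa [QuotientGroup.eq_one_iff] using hf

theorem FailsModCenter.not_law {w : FreeGroup ℕ} {H : Type*} [Group H] (h : FailsModCenter w H) :
    ∃ f : ℕ → H, FreeGroup.lift f w ≠ 1 := by
  obtain ⟨f, hf⟩ := h
  exact ⟨f, fun e => hf (e ▸ Subgroup.one_mem _)⟩

/-- A finite group with a witness gives the failure of the law in all large alternating groups. -/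
theorem HasWitness.alternating {w : FreeGroup ℕ} {S : Type*} [Group S] [Finite S]
    (h : HasWitness w S) (n : ℕ) (hn : Nat.card S ≤ n) :
    FailsModCenter w (alternatingGroup (Fin n)) := by
  classical
  have := Fintype.ofFinite S
  obtain ⟨e⟩ : Nonempty (S ↪ Fin n) :=
    Function.Embedding.nonempty_of_card_le (by rw [← Nat.card_eq_fintype_card, Fintype.card_fin]; exact hn)
  refine h.failsModCenter_subgroup
    ((Equiv.Perm.viaEmbeddingHom e).comp (MulAction.toPermHom S S)) ?_ _ ?_
  · exact (Equiv.Perm.viaEmbeddingHom_injective e).comp MulAction.toPerm_injective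
  · exact Abelianization.commutator_subset_ker (Equiv.Perm.sign : Equiv.Perm (Fin n) →* ℤˣ)

/-- A finite group with a witness exists for every nontrivial word. -/
theorem exists_finite_witness (w : FreeGroup ℕ) (hw : w ≠ 1) :
    ∃ (S : Type) (_ : Group S) (_ : Finite S), HasWitness w S := by
  obtain ⟨N, hN⟩ := exists_noncentral_value.{0} w hw
  obtain ⟨p, hp, hpp⟩ := Nat.exists_infinite_primes N
  have : Fact p.Prime := ⟨hpp⟩
  exact ⟨Matrix.SpecialLinearGroup (Fin 2) (ZMod p), inferInstance, inferInstance,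
    hN (ZMod p) (by simpa using hp)⟩

theorem exists_alternating_bound (w : FreeGroup ℕ) (hw : w ≠ 1) :
    ∃ N : ℕ, ∀ n : ℕ, N ≤ n → FailsModCenter w (alternatingGroup (Fin n)) := by
  obtain ⟨S, _, _, hS⟩ := exists_finite_witness w hw
  exact ⟨Nat.card S, fun n hn => hS.alternating n hn⟩

end CfsgLib.Laws
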