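import Mathlib
import Cfsg.Prelude.Def_Classical
import Cfsg.Agent.Lib.Laws.Transfer

/-!
Embeddings of SL₂ and of finite groups in the classical groups, and the failure of laws.
-/

set_option autoImplicit false

namespace CfsgLib.Laws

open Matrix

theorem FailsModCenter.map_injective {w : FreeGroup ℕ} {K H : Type*} [Group K] [Group H]
    (h : FailsModCenter w K) (ψ : K →* H) (hψ : Function.Injective ψ) : FailsModCenter w H := by
  obtain ⟨f, hf⟩ := h
  refine ⟨fun i => ψ (f i), fun hc => hf (Subgroup.mem_center_iff.2 fun k => hψ ?_)⟩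
  rw [map_mul, map_mul, map_lift]
  exact (Subgroup.mem_center_iff.1 hc) (ψ k)

section Block

variable {ι κ : Type*} [Fintype ι] [Fintype κ] [DecidableEq ι] [DecidableEq κ]
variable {R : Type*} [CommRing R]

/-- `g ↦ fromBlocks g 0 0 1`. -/
def blockLeftHom (ι κ R : Type*) [Fintype ι] [Fintype κ] [DecidableEq ι] [DecidableEq κ]
    [CommRing R] : Matrix ι ι R →* Matrix (ι ⊕ κ) (ι ⊕ κ) R where
  toFun g := fromBlocks g 0 0 1
  map_one' := fromBlocks_one
  map_mul' g h := by simp [fromBlocks_multiply]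

theorem blockLeftHom_injective : Function.Injective (blockLeftHom ι κ R) := fun g h e => by
  simpa [blockLeftHom] using congrArg Matrix.toBlocks₁₁ e

/-- `g ↦ fromBlocks 1 0 0 g`. -/
def blockRightHom (ι κ R : Type*) [Fintype ι] [Fintype κ] [DecidableEq ι] [DecidableEq κ]
    [CommRing R] : Matrix κ κ R →* Matrix (ι ⊕ κ) (ι ⊕ κ) R where
  toFun g := fromBlocks 1 0 0 g
  map_one' := fromBlocks_one
  map_mul' g h := by simp [fromBlocks_multiply]

theorem blockRightHom_injective : Function.Injective (blockRightHom ι κ R) := fun g h e => by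
  simpa [blockRightHom] using congrArg Matrix.toBlocks₂₂ e

/-- The Levi embedding `g ↦ fromBlocks g 0 0 g⁻ᵀ`. -/
def leviHom (ι R : Type*) [Fintype ι] [DecidableEq ι] [CommRing R] :
    GL ι R →* Matrix (ι ⊕ ι) (ι ⊕ ι) R where
  toFun g := fromBlocks (g : Matrix ι ι R) 0 0 ((g⁻¹ : GL ι R) : Matrix ι ι R)ᵀ
  map_one' := by simp [fromBlocks_one]
  map_mul' g h := by simp [fromBlocks_multiply, _root_.mul_inv_rev]

theorem leviHom_injective : Function.Injective (leviHom ι R) := fun g h e => by
  apply Units.ext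
  simpa [leviHom] using congrArg Matrix.toBlocks₁₁ e

theorem leviHom_mem_symplectic (g : GL ι R) : leviHom ι R g ∈ symplecticGroup ι R := by
  have h1 : ((g : Matrix ι ι R)⁻¹)ᵀ * (g : Matrix ι ι R)ᵀ = 1 := by
    rw [← Matrix.coe_units_inv, ← Matrix.transpose_mul, ← Units.val_mul, mul_inv_cancel]; simp
  have h2 : (g : Matrix ι ι R) * (g : Matrix ι ι R)⁻¹ = 1 := by
    rw [← Matrix.coe_units_inv, ← Units.val_mul, mul_inv_cancel]; simp
  rw [SymplecticGroup.mem_iff]
  simp [leviHom, Matrix.J, fromBlocks_transpose, fromBlocks_multiply, h1, h2]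

end Block

section Perm

variable {F : Type*} [Field F]

theorem permMatrixHom_injective {n : Type*} [DecidableEq n] [Fintype n] :
    Function.Injective (permMatrixHom (n := n) (R := F)) := by
  intro σ τ h
  have h' : (σ⁻¹).toPEquiv = (τ⁻¹).toPEquiv := PEquiv.toMatrix_injective h
  apply inv_injective
  ext i
  simpa using congrArg (fun f : n ≃. n => f i) h'

/-- A group embeds in the general linear group on enough coordinates. -/
theorem exists_gl_embedding (S : Type*) [Group S] [Finite S] (m : ℕ) (hm : Nat.card S ≤ m) :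
    ∃ ψ : S →* GL (Fin m) F, Function.Injective ψ := by
  classical
  have := Fintype.ofFinite S
  obtain ⟨e⟩ : Nonempty (S ↪ Fin m) :=
    Function.Embedding.nonempty_of_card_le
      (by rw [← Nat.card_eq_fintype_card, Fintype.card_fin]; exact hm)
  refine ⟨((permMatrixHom (n := Fin m) (R := F)).toHomUnits).comp
    ((Equiv.Perm.viaEmbeddingHom e).comp (MulAction.toPermHom S S)), ?_⟩
  intro a b h
  have h' := permMatrixHom_injective (congrArg Units.val h)
  exact MulAction.toPerm_injective (Equiv.Perm.viaEmbeddingHom_injective e h')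

/-- Permutation matrices of even permutations inside SL. -/
noncomputable def altToSL (n : ℕ) (F : Type*) [Field F] :
    alternatingGroup (Fin n) →* SpecialLinearGroup (Fin n) F where
  toFun σ := ⟨permMatrixHom (R := F) (σ : Equiv.Perm (Fin n)), by
    have hs : Equiv.Perm.sign ((σ : Equiv.Perm (Fin n))⁻¹) = 1 := by
      rw [map_inv, (Equiv.Perm.mem_alternatingGroup.1 σ.2), inv_one]
    rw [permMatrixHom_apply, det_permutation, hs]; simp⟩
  map_one' := Subtype.ext (map_one _)
  map_mul' σ τ := Subtype.ext (map_mul (permMatrixHom (R := F)) _ _)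

theorem altToSL_injective (n : ℕ) : Function.Injective (altToSL n F) := fun _ _ h =>
  Subtype.ext (permMatrixHom_injective (congrArg Subtype.val h))

theorem altToSL_mem_SU (n q : ℕ) (σ : alternatingGroup (Fin n)) :
    altToSL n F σ ∈ Cfsg.SU n F q := by
  intro u v
  show Cfsg.hermForm n F q (permMatrixHom (R := F) (σ : Equiv.Perm (Fin n)) *ᵥ u)
      (permMatrixHom (R := F) (σ : Equiv.Perm (Fin n)) *ᵥ v) = _
  simp only [permMatrixHom_apply, permMatrix_mulVec, Cfsg.hermForm, Function.comp]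
  exact Equiv.sum_comp ((σ : Equiv.Perm (Fin n))⁻¹) fun i => u i * v i ^ q

end Perm

section SL2

variable {F : Type*} [Field F]

/-- SL₂ in the top left corner of SL₂₊ₖ. -/
noncomputable def slBlock (k : ℕ) (F : Type*) [Field F] :
    SpecialLinearGroup (Fin 2) F →* SpecialLinearGroup (Fin (2 + k)) F where
  toFun g := ⟨reindex finSumFinEquiv finSumFinEquiv (fromBlocks g.1 0 0 (1 : Matrix (Fin k) (Fin k) F)),
    by rw [det_reindex_self, det_fromBlocks_zero₂₁, g.2, det_one, one_mul]⟩
  map_one' := by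
    apply Subtype.ext
    show reindex _ _ (fromBlocks (1 : Matrix (Fin 2) (Fin 2) F) 0 0 1) = 1
    simp [fromBlocks_one]
  map_mul' g h := by
    apply Subtype.ext
    show reindex _ _ (fromBlocks (g.1 * h.1) 0 0 1) =
      reindex _ _ (fromBlocks g.1 0 0 1) * reindex _ _ (fromBlocks h.1 0 0 1)
    simp [submatrix_mul_equiv, fromBlocks_multiply]

theorem slBlock_injective (k : ℕ) : Function.Injective (slBlock k F) := by
  intro g h e
  apply Subtype.ext
  have h' := (reindex (finSumFinEquiv (m := 2) (n := k)) finSumFinEquiv).injective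
    (congrArg Subtype.val e)
  simpa using congrArg Matrix.toBlocks₁₁ h'

/-- SL₂ inside GL of any degree at least 2. -/
theorem exists_sl2_gl_embedding (m : ℕ) (hm : 2 ≤ m) :
    ∃ ψ : SpecialLinearGroup (Fin 2) F →* GL (Fin m) F, Function.Injective ψ := by
  obtain ⟨k, rfl⟩ := Nat.exists_eq_add_of_le hm
  refine ⟨SpecialLinearGroup.toGL.comp (slBlock k F), fun a b h => slBlock_injective k ?_⟩
  exact Subtype.ext (congrArg Units.val h)

theorem slBlock_mem_SU (k q : ℕ) (g : SpecialLinearGroup (Fin 2) F)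
    (hg : g ∈ Cfsg.SU 2 F q) : slBlock k F g ∈ Cfsg.SU (2 + k) F q := by
  intro u v
  have hsplit : ∀ x : Fin (2 + k) → F,
      (slBlock k F g).1 *ᵥ x = fun i => Sum.elim (g.1 *ᵥ fun a => x (Fin.castAdd k a))
        (fun b => x (Fin.natAdd 2 b)) (finSumFinEquiv.symm i) := by
    intro x
    funext i
    show ((fromBlocks g.1 0 0 (1 : Matrix (Fin k) (Fin k) F)).submatrix finSumFinEquiv.symm
      finSumFinEquiv.symm *ᵥ x) i = _
    rw [submatrix_mulVec_equiv]
    simp only [Function.comp, Equiv.symm_symm, fromBlocks_mulVec]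
    obtain ⟨j, rfl⟩ := finSumFinEquiv.surjective i
    rcases j with a | b <;> simp [Function.comp_def]
  show Cfsg.hermForm (2 + k) F q ((slBlock k F g).1 *ᵥ u) ((slBlock k F g).1 *ᵥ v) = _
  rw [hsplit u, hsplit v]
  have h2 := hg (fun a => u (Fin.castAdd k a)) (fun a => v (Fin.castAdd k a))
  simp only [Cfsg.hermForm, Fin.sum_univ_add, finSumFinEquiv_symm_apply_castAdd,
    finSumFinEquiv_symm_apply_natAdd, Sum.elim_inl, Sum.elim_inr]
  exact congrArg₂ (· + ·) h2 rfl

end SL2

section Orthogonal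

variable {F : Type*} [Field F]

theorem levi_dot {m : ℕ} (g : GL (Fin m) F) (v : Fin m ⊕ Fin m → F) :
    (∑ i : Fin m, (leviHom (Fin m) F g *ᵥ v) (.inl i) * (leviHom (Fin m) F g *ᵥ v) (.inr i))
      = ∑ i : Fin m, v (.inl i) * v (.inr i) := by
  have h0 : leviHom (Fin m) F g *ᵥ v = Sum.elim
      ((g : Matrix (Fin m) (Fin m) F) *ᵥ (fun i => v (.inl i)))
      (((g⁻¹ : GL (Fin m) F) : Matrix (Fin m) (Fin m) F)ᵀ *ᵥ (fun i => v (.inr i))) := by
    show fromBlocks (g : Matrix (Fin m) (Fin m) F) 0 0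
      ((g⁻¹ : GL (Fin m) F) : Matrix (Fin m) (Fin m) F)ᵀ *ᵥ v = _
    rw [fromBlocks_mulVec]
    simp only [zero_mulVec, add_zero, zero_add, Function.comp_def]
  rw [h0]
  show ((g : Matrix (Fin m) (Fin m) F) *ᵥ (fun i => v (.inl i))) ⬝ᵥ
    (((g⁻¹ : GL (Fin m) F) : Matrix (Fin m) (Fin m) F)ᵀ *ᵥ (fun i => v (.inr i))) = _
  rw [dotProduct_mulVec, vecMul_transpose, mulVec_mulVec, ← Units.val_mul, inv_mul_cancel,
    Units.val_one, one_mulVec]
  rfl

theorem levi_isometry_plus {m : ℕ} (g : GL (Fin m) F) :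
    (leviHom (Fin m) F).toHomUnits g ∈ Cfsg.isometryGroup F (Cfsg.quadFormPlus m F) := by
  intro u _
  exact levi_dot g u

theorem levi_isometry_odd {m : ℕ} (g : GL (Fin m) F) :
    ((blockRightHom Unit (Fin m ⊕ Fin m) F).comp (leviHom (Fin m) F)).toHomUnits g ∈
      Cfsg.isometryGroup F (Cfsg.quadFormOdd m F) := by
  intro u _
  have h0 := levi_dot g (fun i => u (.inr i))
  show Cfsg.quadFormOdd m F (fromBlocks 1 0 0 (leviHom (Fin m) F g) *ᵥ u) = _
  simp only [Cfsg.quadFormOdd, fromBlocks_mulVec, Sum.elim_inl, Sum.elim_inr, one_mulVec,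
    zero_mulVec, add_zero, zero_add, Function.comp_apply]
  rw [← h0]
  rfl

theorem levi_isometry_minus {m : ℕ} (a b : F) (g : GL (Fin m) F) :
    ((blockLeftHom (Fin m ⊕ Fin m) (Fin 2) F).comp (leviHom (Fin m) F)).toHomUnits g ∈
      Cfsg.isometryGroup F (Cfsg.quadFormMinus m F a b) := by
  intro u _
  have h0 := levi_dot g (fun i => u (.inl i))
  show Cfsg.quadFormMinus m F a b (fromBlocks (leviHom (Fin m) F g) 0 0 1 *ᵥ u) = _
  simp only [Cfsg.quadFormMinus, fromBlocks_mulVec, Sum.elim_inl, Sum.elim_inr, one_mulVec,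
    zero_mulVec, add_zero, zero_add, Function.comp_apply]
  rw [← h0]
  rfl

theorem toHomUnits_injective' {G M : Type*} [Group G] [Monoid M] (f : G →* M)
    (hf : Function.Injective f) : Function.Injective f.toHomUnits := fun a b h =>
  hf (congrArg Units.val h)

/-- A witness in GL gives failure in the three orthogonal groups. -/
theorem HasWitness.omega {w : FreeGroup ℕ} {S : Type*} [Group S] (h : HasWitness w S) {m : ℕ}
    (ψ : S →* GL (Fin m) F) (hψ : Function.Injective ψ) :
    FailsModCenter w (Cfsg.Omega F (Cfsg.quadFormPlus m F)) ∧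
    FailsModCenter w (Cfsg.Omega F (Cfsg.quadFormOdd m F)) ∧
    ∀ a b : F, FailsModCenter w (Cfsg.Omega F (Cfsg.quadFormMinus m F a b)) := by
  refine ⟨?_, ?_, fun a b => ?_⟩
  · refine h.failsModCenter_subgroup
      (((leviHom (Fin m) F).toHomUnits.codRestrict _ levi_isometry_plus).comp ψ) ?_ _ le_rfl
    exact (Function.Injective.codRestrict _ (toHomUnits_injective' _ leviHom_injective)).comp hψ
  · refine h.failsModCenter_subgroup
      ((((blockRightHom Unit (Fin m ⊕ Fin m) F).comp (leviHom (Fin m) F)).toHomUnits.codRestrict _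
        levi_isometry_odd).comp ψ) ?_ _ le_rfl
    exact (Function.Injective.codRestrict _
      (toHomUnits_injective' _ (blockRightHom_injective.comp leviHom_injective))).comp hψ
  · refine h.failsModCenter_subgroup
      ((((blockLeftHom (Fin m ⊕ Fin m) (Fin 2) F).comp (leviHom (Fin m) F)).toHomUnits.codRestrict _
        (levi_isometry_minus a b)).comp ψ) ?_ _ le_rfl
    exact (Function.Injective.codRestrict _
      (toHomUnits_injective' _ (blockLeftHom_injective.comp leviHom_injective))).comp hψ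

/-- A witness in GL gives failure in the symplectic group. -/
theorem HasWitness.symplectic {w : FreeGroup ℕ} {S : Type*} [Group S] (h : HasWitness w S) {m : ℕ}
    (ψ : S →* GL (Fin m) F) (hψ : Function.Injective ψ) :
    FailsModCenter w (symplecticGroup (Fin m) F) := by
  refine h.failsModCenter (((leviHom (Fin m) F).codRestrict _ leviHom_mem_symplectic).comp ψ) ?_
  intro a b e
  exact hψ (leviHom_injective (congrArg Subtype.val e))

end Orthogonal

section Unitary

variable {F : Type*} [Field F]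

/-- In a field of order q² there is SL₂ over a subfield with at least q - 1 elements inside SU₂. -/
theorem exists_SU2_embedding [Fintype F] (q : ℕ) (hF : Fintype.card F = q ^ 2) :
    ∃ (F₀ : Subfield F) (ψ : SpecialLinearGroup (Fin 2) F₀ →* Cfsg.SU 2 F q),
      q - 1 ≤ Nat.card F₀ ∧ Function.Injective ψ := by
  classical
  obtain ⟨p, hchar⟩ := CharP.exists F
  obtain ⟨n, hp, hn⟩ := FiniteField.card F p
  have : Fact p.Prime := ⟨hp⟩
  have : ExpChar F p := ExpChar.prime hp
  obtain ⟨j, -, rfl⟩ := (Nat.dvd_prime_pow hp).1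
    (show q ∣ p ^ (n : ℕ) by rw [← hn, hF]; exact dvd_pow_self q two_ne_zero)
  set σ : F →+* F := iterateFrobenius F p j with hσ
  set q := p ^ j with hq
  have hσdef : ∀ x, σ x = x ^ q := fun x => by rw [hσ, iterateFrobenius_def]
  have hq2 : 2 ≤ q := by
    have h1 : 1 < q ^ 2 := hF ▸ Fintype.one_lt_card
    nlinarith
  have hsq : ∀ x, σ (σ x) = x := fun x => by
    rw [hσdef, hσdef, ← pow_mul, ← pow_two, ← hF, FiniteField.pow_card]
  obtain ⟨g, hg⟩ := IsCyclic.exists_generator (α := Fˣ)
  have hord : orderOf g = (q + 1) * (q - 1) := by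
    rw [orderOf_eq_card_of_forall_mem_zpowers hg, Nat.card_units, Nat.card_eq_fintype_card, hF]
    rw [← Nat.sq_sub_sq, one_pow]
  refine ⟨RingHom.eqLocusField σ (RingHom.id F), ?_⟩
  have hcard : q - 1 ≤ Nat.card (RingHom.eqLocusField σ (RingHom.id F)) := by
    have hh : orderOf (g ^ (q + 1)) = q - 1 := by
      rw [orderOf_pow' g (by omega), hord,
        Nat.gcd_eq_right (Dvd.intro _ rfl), Nat.mul_div_cancel_left _ (by omega)]
    rw [← hh, ← Nat.card_zpowers]
    refine Nat.card_le_card_of_injective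
      (fun u => ⟨((u : Fˣ) : F), ?_⟩) (fun u v h => Subtype.ext (Units.ext (congrArg Subtype.val h)))
    obtain ⟨k, hk⟩ := Subgroup.mem_zpowers_iff.1 u.2
    have hu : (u : Fˣ) ^ (q - 1) = 1 := by
      rw [← hk, ← zpow_natCast, ← _root_.zpow_mul, mul_comm, _root_.zpow_mul, zpow_natCast, ← hh,
        pow_orderOf_eq_one, _root_.one_zpow]
    show σ ((u : Fˣ) : F) = _
    have hu' : ((u : Fˣ) : F) ^ (q - 1 + 1) = ((u : Fˣ) : F) := by
      rw [pow_succ, ← Units.val_pow_eq_pow_val, hu]; simp
    rw [Nat.sub_add_cancel (show 1 ≤ q by omega)] at hu'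
    rw [hσdef, hu']
    rfl
  obtain ⟨k, hk⟩ : ∃ k : ℕ, g ^ k = (-1 : Fˣ) := by
    have := hg (-1)
    rw [← mem_powers_iff_mem_zpowers] at this
    exact Submonoid.mem_powers_iff _ _ |>.1 this
  have hm1 : (-1 : Fˣ) ^ (q - 1) = 1 := by
    apply Units.ext
    have h := map_neg σ (1 : F)
    rw [map_one, hσdef, ← Nat.sub_add_cancel (show 1 ≤ q by omega), pow_succ] at h
    simp at h ⊢
    exact h
  have hdvd : q + 1 ∣ k := by
    rw [← hk, ← pow_mul] at hm1
    have := orderOf_dvd_of_pow_eq_one hm1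
    rw [hord] at this
    exact Nat.dvd_of_mul_dvd_mul_right (by omega) this
  obtain ⟨l, rfl⟩ := hdvd
  set α : Fˣ := g ^ l with hα
  set β : Fˣ := g ^ l * g ^ (q - 1) with hβ
  have hαn : α ^ (q + 1) = -1 := by rw [hα, ← pow_mul, mul_comm, hk]
  have hβn : β ^ (q + 1) = -1 := by
    rw [hβ, mul_pow, ← hα, hαn, ← pow_mul, mul_comm (q - 1), ← hord, pow_orderOf_eq_one, mul_one]
  have hαβ : (α : F) ≠ β := by
    intro h
    have h1 : g ^ (q - 1) = 1 := by
      have := Units.ext h
      rw [hβ, ← hα] at this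
      simpa using this
    have := Nat.le_of_dvd (by omega) (orderOf_dvd_of_pow_eq_one h1)
    rw [hord] at this
    nlinarith [show 1 ≤ q - 1 by omega]
  have hA : (α : F) * σ α = -1 := by
    rw [hσdef, ← pow_succ', ← Units.val_pow_eq_pow_val, hαn]; simp
  have hB : (β : F) * σ β = -1 := by
    rw [hσdef, ← pow_succ', ← Units.val_pow_eq_pow_val, hβn]; simp
  set d : F := 1 + (α : F) * σ β with hd
  have hd0 : d ≠ 0 := by
    intro h0
    have h1 : (α : F) * σ β = (α : F) * σ α := by rw [hA]; linear_combination h0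
    exact hαβ (σ.injective (mul_left_cancel₀ α.ne_zero h1)).symm
  set z : F := (g : F) with hz
  have hzne : z - σ z ≠ 0 := by
    intro h0
    have h1 : g ^ (q - 1) = 1 := by
      apply mul_left_cancel (a := g)
      apply Units.ext
      rw [← pow_succ', Nat.sub_add_cancel (by omega), mul_one, Units.val_pow_eq_pow_val, ← hσdef]
      exact (sub_eq_zero.1 h0).symm
    have := Nat.le_of_dvd (by omega) (orderOf_dvd_of_pow_eq_one h1)
    rw [hord] at this
    nlinarith [show 1 ≤ q - 1 by omega]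
  set l' : F := z - σ z with hl
  have hll : σ l' = - l' := by rw [hl, map_sub, hsq]; ring
  set s : F := σ (l' / d) with hs
  have hs0 : s ≠ 0 := by simp [hs, hzne, hd0]
  have hsσ : σ s * d = l' := by rw [hs, hsq, div_mul_cancel₀ _ hd0]
  have hsσ' : s * (1 + (β : F) * σ α) = - l' := by
    have h := congrArg σ hsσ
    rw [map_mul, hsq, hll, hd, map_add, map_one, map_mul, hsq, mul_comm (σ (α : F))] at h
    exact h
  set P : Matrix (Fin 2) (Fin 2) F := !![1, s; (α : F), s * (β : F)] with hP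
  have hPdet : P.det ≠ 0 := by
    rw [hP, det_fin_two_of, one_mul, ← mul_sub]
    exact mul_ne_zero hs0 (sub_ne_zero.2 hαβ.symm)
  have hPform : ∀ x y : Fin 2 → F,
      Cfsg.hermForm 2 F q (P *ᵥ x) (P *ᵥ y) = l' * (x 0 * σ (y 1) - x 1 * σ (y 0)) := by
    intro x y
    simp only [Cfsg.hermForm, ← hσdef, hP, Fin.sum_univ_two]
    simp [Matrix.mulVec, dotProduct, Fin.sum_univ_two, map_add, map_mul]
    linear_combination (x 0 * σ (y 1)) * hsσ + (x 1 * σ (y 0)) * hsσ' +
      (x 0 * σ (y 0)) * hA + (x 1 * σ (y 1) * s * σ s) * hB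
      - (x 0 * σ (y 1) * σ s) * hd
  let U : GL (Fin 2) F := GeneralLinearGroup.mkOfDetNeZero P hPdet
  have hU : (U : Matrix (Fin 2) (Fin 2) F) = P := rfl
  set F₀ := RingHom.eqLocusField σ (RingHom.id F) with hF₀
  have hfix : ∀ a : F₀, σ (F₀.subtype a) = F₀.subtype a := fun a => a.2
  let M : SpecialLinearGroup (Fin 2) F₀ → Matrix (Fin 2) (Fin 2) F := fun g =>
    P * g.1.map F₀.subtype * ((U⁻¹ : GL (Fin 2) F) : Matrix (Fin 2) (Fin 2) F)
  have hUinv : ((U⁻¹ : GL (Fin 2) F) : Matrix (Fin 2) (Fin 2) F) * P = 1 := by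
    rw [← hU, ← Units.val_mul, inv_mul_cancel, Units.val_one]
  have hUinv' : P * ((U⁻¹ : GL (Fin 2) F) : Matrix (Fin 2) (Fin 2) F) = 1 := by
    rw [← hU, ← Units.val_mul, mul_inv_cancel, Units.val_one]
  have hMdet : ∀ g, (M g).det = 1 := by
    intro g
    have hgd : (g.1.map F₀.subtype).det = 1 := by
      rw [← RingHom.mapMatrix_apply, ← RingHom.map_det, g.2, map_one]
    simp only [M, det_mul, hgd, mul_one]
    rw [← det_mul, hUinv', det_one]
  let φ : SpecialLinearGroup (Fin 2) F₀ →* SpecialLinearGroup (Fin 2) F :=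
    { toFun := fun g => ⟨M g, hMdet g⟩
      map_one' := by
        apply Subtype.ext
        show P * (1 : Matrix (Fin 2) (Fin 2) F₀).map F₀.subtype * _ = 1
        rw [Matrix.map_one F₀.subtype (map_zero _) (map_one _), mul_one, hUinv']
      map_mul' := fun a b => by
        apply Subtype.ext
        show P * (a.1 * b.1).map F₀.subtype * _ = M a * M b
        simp only [M, Matrix.map_mul]
        simp only [mul_assoc]
        rw [← mul_assoc _ P, hUinv, one_mul] }
  have hφSU : ∀ g, φ g ∈ Cfsg.SU 2 F q := by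
    intro g u v
    show Cfsg.hermForm 2 F q (M g *ᵥ u) (M g *ᵥ v) = _
    set x := ((U⁻¹ : GL (Fin 2) F) : Matrix (Fin 2) (Fin 2) F) *ᵥ u with hx
    set y := ((U⁻¹ : GL (Fin 2) F) : Matrix (Fin 2) (Fin 2) F) *ᵥ v with hy
    have hu : u = P *ᵥ x := by rw [hx, mulVec_mulVec, hUinv', one_mulVec]
    have hv : v = P *ᵥ y := by rw [hy, mulVec_mulVec, hUinv', one_mulVec]
    have e1 : M g *ᵥ u = P *ᵥ (g.1.map F₀.subtype *ᵥ x) := by
      simp only [M, hx, mulVec_mulVec, mul_assoc]
    have e2 : M g *ᵥ v = P *ᵥ (g.1.map F₀.subtype *ᵥ y) := by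
      simp only [M, hy, mulVec_mulVec, mul_assoc]
    rw [e1, e2, hPform]
    conv_rhs => rw [hu, hv, hPform]
    have hdet : F₀.subtype (g.1 0 0) * F₀.subtype (g.1 1 1)
        - F₀.subtype (g.1 0 1) * F₀.subtype (g.1 1 0) = 1 := by
      rw [← map_mul, ← map_mul, ← map_sub, ← det_fin_two, g.2, map_one]
    simp only [Matrix.mulVec, dotProduct, Fin.sum_univ_two, Matrix.map_apply, map_add, map_mul,
      hfix]
    linear_combination l' * (x 0 * σ (y 1) - x 1 * σ (y 0)) * hdet
  refine ⟨φ.codRestrict _ hφSU, hcard, ?_⟩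
  intro a b h
  have h' : M a = M b := congrArg Subtype.val (congrArg Subtype.val h)
  have h'' := congrArg
    (fun X => ((U⁻¹ : GL (Fin 2) F) : Matrix (Fin 2) (Fin 2) F) * X * P) h'
  simp only [M, mul_assoc, hUinv, mul_one] at h''
  rw [← mul_assoc, ← mul_assoc, hUinv, one_mul, one_mul] at h''
  exact Subtype.ext (Matrix.map_injective F₀.subtype.injective h'')

end Unitary

end CfsgLib.Laws
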